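import Mathlib.RingTheory.MvPolynomial.Basic
import Mathlib.RingTheory.Ideal.Quotient.Operations
import Mathlib.RingTheory.Flat.Basic
import Mathlib.Algebra.Category.Ring.Constructions
import Mathlib.Algebra.Polynomial.AlgebraMap

/-!
# The deformations `x y = c` of the node
-/

noncomputable section

open MvPolynomial CategoryTheory

universe u

namespace Groth.Agent.ArtNode

variable {A : Type u} [CommRing A]

/-- The ideal `(x y - c)`. -/
def nodeIdeal (c : A) : Ideal (MvPolynomial (Fin 2) A) :=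
  Ideal.span {X 0 * X 1 - C c}

/-- The ring `A[x, y]/(x y - c)`. -/
abbrev NR (c : A) : Type u := MvPolynomial (Fin 2) A ⧸ nodeIdeal c

/-- The reduced monomial: `x^n` or `y^(-n)`. -/
def mono (n : ℤ) : MvPolynomial (Fin 2) A := X 0 ^ n.toNat * X 1 ^ (-n).toNat

/-- Normal form: `x^i y^j ↦ c^(min i j) e_(i-j)`. -/
def nf (c : A) : MvPolynomial (Fin 2) A →ₗ[A] (ℤ →₀ A) :=
  (MvPolynomial.basisMonomials (Fin 2) A).constr A fun d =>
    c ^ min (d 0) (d 1) • Finsupp.single ((d 0 : ℤ) - d 1) 1

theorem nf_monomial (c : A) (d : Fin 2 →₀ ℕ) :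
    nf c (monomial d 1) = c ^ min (d 0) (d 1) • Finsupp.single ((d 0 : ℤ) - d 1) 1 := by
  have h := Module.Basis.constr_basis (MvPolynomial.basisMonomials (Fin 2) A) A
    (fun d => c ^ min (d 0) (d 1) • Finsupp.single ((d 0 : ℤ) - d 1) (1 : A)) d
  rw [MvPolynomial.coe_basisMonomials] at h
  exact h

theorem monomial_eq' (d : Fin 2 →₀ ℕ) :
    (monomial d 1 : MvPolynomial (Fin 2) A) = X 0 ^ d 0 * X 1 ^ d 1 := by
  rw [monomial_eq, map_one, one_mul, Finsupp.prod_fintype _ _ fun i => pow_zero _, Fin.prod_univ_two]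

theorem nf_monomial_mul (c : A) (d : Fin 2 →₀ ℕ) (a : A) :
    nf c (monomial d a * (X 0 * X 1 - C c)) = 0 := by
  have h1 : monomial d a * (X 0 * X 1 - C c) =
      a • monomial (d + Finsupp.single 0 1 + Finsupp.single 1 1) (1 : A) - (a * c) • monomial d 1 := by
    rw [mul_sub, ← mul_assoc, smul_monomial, smul_monomial, X, X, monomial_mul, monomial_mul,
      C_apply, monomial_mul]
    simp
  rw [h1, map_sub, map_smul, map_smul, nf_monomial, nf_monomial, sub_eq_zero]
  simp only [Finsupp.coe_add, Pi.add_apply, Finsupp.single_eq_same, Finsupp.single_eq_of_ne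
    (show (1 : Fin 2) ≠ 0 from by decide), Finsupp.single_eq_of_ne
    (show (0 : Fin 2) ≠ 1 from by decide), add_zero]
  rw [show min (d 0 + 1) (d 1 + 1) = min (d 0) (d 1) + 1 by omega,
    show ((d 0 + 1 : ℕ) : ℤ) - (d 1 + 1 : ℕ) = (d 0 : ℤ) - d 1 by push_cast; ring,
    smul_smul, smul_smul]
  congr 1
  ring

/-- The inverse of the normal form. -/
def unf : (ℤ →₀ A) →ₗ[A] MvPolynomial (Fin 2) A :=
  Finsupp.linearCombination A mono

theorem nf_unf (c : A) (v : ℤ →₀ A) : nf c (unf v) = v := by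
  have h : (nf c).comp unf = LinearMap.id := by
    apply Finsupp.lhom_ext'
    intro n
    apply LinearMap.ext_ring
    simp only [unf, LinearMap.coe_comp, Function.comp_apply, Finsupp.lsingle_apply,
      Finsupp.linearCombination_single, one_smul, LinearMap.id_coe, id_eq, mono]
    rw [show (X 0 ^ n.toNat * X 1 ^ (-n).toNat : MvPolynomial (Fin 2) A) =
      monomial (Finsupp.single 0 n.toNat + Finsupp.single 1 (-n).toNat) 1 by
        rw [monomial_eq']; simp, nf_monomial]
    simp only [Finsupp.coe_add, Pi.add_apply, Finsupp.single_eq_same, Finsupp.single_eq_of_ne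
      (show (1 : Fin 2) ≠ 0 from by decide), Finsupp.single_eq_of_ne
      (show (0 : Fin 2) ≠ 1 from by decide), add_zero, zero_add]
    rw [show min n.toNat (-n).toNat = 0 by omega, show ((n.toNat : ℤ) - (-n).toNat) = n by omega,
      pow_zero, one_smul]
  exact LinearMap.congr_fun h v

theorem sub_unf_nf_mem (c : A) (p : MvPolynomial (Fin 2) A) :
    p - unf (nf c p) ∈ nodeIdeal c := by
  induction p using MvPolynomial.induction_on' with
  | add p q hp hq =>
    rw [map_add, map_add, add_sub_add_comm]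
    exact add_mem hp hq
  | monomial d a =>
    have h1 : (monomial d a : MvPolynomial (Fin 2) A) = a • monomial d 1 := by
      rw [smul_monomial]; simp
    rw [h1, map_smul, map_smul, ← smul_sub, nf_monomial, map_smul, unf,
      Finsupp.linearCombination_single, one_smul, monomial_eq', mono, smul_eq_C_mul, smul_eq_C_mul,
      map_pow]
    refine Ideal.mul_mem_left _ _ ?_
    obtain ⟨m, hm⟩ : ∃ m, m = min (d 0) (d 1) := ⟨_, rfl⟩
    obtain ⟨r, s, hr, hs, e⟩ : ∃ r s, d 0 = m + r ∧ d 1 = m + s ∧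
        ((d 0 : ℤ) - d 1).toNat = r ∧ (-((d 0 : ℤ) - d 1)).toNat = s :=
      ⟨d 0 - m, d 1 - m, by omega, by omega, by omega, by omega⟩
    rw [e.1, e.2, ← hm, hr, hs]
    rw [show (X 0 ^ (m + r) * X 1 ^ (m + s) : MvPolynomial (Fin 2) A) - C c ^ m * (X 0 ^ r * X 1 ^ s)
      = ((X 0 * X 1) ^ m - C c ^ m) * (X 0 ^ r * X 1 ^ s) by rw [mul_pow, pow_add, pow_add]; ring]
    refine Ideal.mul_mem_right _ _ ?_
    exact Ideal.mem_of_dvd _ (sub_dvd_pow_sub_pow _ _ m) (Ideal.subset_span rfl)

theorem nf_eq_zero_of_mem (c : A) {p : MvPolynomial (Fin 2) A} (hp : p ∈ nodeIdeal c) :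
    nf c p = 0 := by
  obtain ⟨q, rfl⟩ := Ideal.mem_span_singleton'.1 hp
  induction q using MvPolynomial.induction_on' with
  | add a b ha hb =>
    rw [add_mul, map_add, ha (Ideal.mul_mem_left _ a (Ideal.subset_span rfl)),
      hb (Ideal.mul_mem_left _ b (Ideal.subset_span rfl)), add_zero]
  | monomial d a => exact nf_monomial_mul c d a

/-- `A[x, y]/(x y - c)` is free. -/
def nrEquiv (c : A) : NR c ≃ₗ[A] (ℤ →₀ A) :=
  LinearEquiv.ofLinear
    (((nodeIdeal c).restrictScalars A).liftQ (nf c) fun _ hp => nf_eq_zero_of_mem c hp)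
    ((Ideal.Quotient.mkₐ A (nodeIdeal c)).toLinearMap ∘ₗ unf)
    (LinearMap.ext fun v => nf_unf c v)
    (LinearMap.ext fun x => by
      obtain ⟨p, rfl⟩ := Ideal.Quotient.mk_surjective x
      refine (Ideal.Quotient.eq.2 ?_).symm
      exact sub_unf_nf_mem c p)

theorem algebraMap_NR (c a : A) : algebraMap A (NR c) a = Ideal.Quotient.mk (nodeIdeal c) (C a) := rfl

theorem flat_NR (c : A) : Module.Flat A (NR c) := Module.Flat.of_linearEquiv (nrEquiv c)

/-- The induced map on rings. -/
def nrMap {B : Type u} [CommRing B] (g : A →+* B) (c : A) (J : Ideal (MvPolynomial (Fin 2) B))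
    (hJ : J = Ideal.span {X 0 * X 1 - C (g c)}) : NR c →+* MvPolynomial (Fin 2) B ⧸ J :=
  Ideal.Quotient.lift _ ((Ideal.Quotient.mk J).comp (map g)) fun p hp => by
    obtain ⟨q, rfl⟩ := Ideal.mem_span_singleton'.1 hp
    have h : map g (X 0 * X 1 - C c) ∈ J := by
      rw [hJ, map_sub, map_mul, map_X, map_X, map_C]
      exact Ideal.subset_span rfl
    rw [RingHom.comp_apply, map_mul, Ideal.Quotient.eq_zero_iff_mem]
    exact J.mul_mem_left _ h

theorem nrMap_algebraMap {B : Type u} [CommRing B] (g : A →+* B) (c : A)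
    (J : Ideal (MvPolynomial (Fin 2) B)) (hJ : J = Ideal.span {X 0 * X 1 - C (g c)}) (a : A) :
    nrMap g c J hJ (algebraMap A (NR c) a) = algebraMap B _ (g a) := by
  change nrMap g c J hJ (Ideal.Quotient.mk _ (C a)) = Ideal.Quotient.mk _ (C (g a))
  simp [nrMap]

theorem nrMap_X {B : Type u} [CommRing B] (g : A →+* B) (c : A)
    (J : Ideal (MvPolynomial (Fin 2) B)) (hJ : J = Ideal.span {X 0 * X 1 - C (g c)}) (i : Fin 2) :
    nrMap g c J hJ (Ideal.Quotient.mk _ (X i)) = Ideal.Quotient.mk _ (X i) := by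
  simp [nrMap]

/-- Base change of the family. -/
theorem isPushout_nr {B : Type u} [CommRing B] (g : A →+* B) (c : A)
    (J : Ideal (MvPolynomial (Fin 2) B)) (hJ : J = Ideal.span {X 0 * X 1 - C (g c)}) :
    IsPushout (CommRingCat.ofHom (algebraMap A (NR c))) (CommRingCat.ofHom g)
      (CommRingCat.ofHom (nrMap g c J hJ))
      (CommRingCat.ofHom (algebraMap B (MvPolynomial (Fin 2) B ⧸ J))) := by
  have w : CommRingCat.ofHom (algebraMap A (NR c)) ≫ CommRingCat.ofHom (nrMap g c J hJ) =
      CommRingCat.ofHom g ≫ CommRingCat.ofHom (algebraMap B (MvPolynomial (Fin 2) B ⧸ J)) := by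
    ext a
    exact nrMap_algebraMap g c J hJ a
  let desc : ∀ s : Limits.PushoutCocone (CommRingCat.ofHom (algebraMap A (NR c))) (CommRingCat.ofHom g),
      CommRingCat.of (MvPolynomial (Fin 2) B ⧸ J) ⟶ s.pt := fun s =>
    CommRingCat.ofHom (Ideal.Quotient.lift J
      (eval₂Hom s.inr.hom fun i => s.inl.hom (Ideal.Quotient.mk _ (X i))) fun p hp => by
        rw [hJ] at hp
        obtain ⟨q, rfl⟩ := Ideal.mem_span_singleton'.1 hp
        have h2 : s.inl.hom (algebraMap A (NR c) c) = s.inr.hom (g c) :=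
          congrArg (fun f => f.hom c) s.condition
        have h3 : (Ideal.Quotient.mk (nodeIdeal c) (X 0) : NR c) * Ideal.Quotient.mk _ (X 1) =
            algebraMap A (NR c) c := by
          rw [← map_mul]
          exact Ideal.Quotient.eq.2 (Ideal.subset_span rfl)
        rw [map_mul, map_sub, map_mul, eval₂Hom_X', eval₂Hom_X', eval₂Hom_C, ← h2, ← map_mul, h3,
          sub_self, mul_zero])
  refine IsPushout.of_isColimit' ⟨w⟩ (Limits.PushoutCocone.IsColimit.mk _ desc ?_ ?_ ?_)
  · intro s
    ext1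
    apply Ideal.Quotient.ringHom_ext
    apply MvPolynomial.ringHom_ext
    · intro a
      have h2 : s.inl.hom (algebraMap A (NR c) a) = s.inr.hom (g a) :=
        congrArg (fun f => f.hom a) s.condition
      refine Eq.trans ?_ h2.symm
      change (desc s).hom (nrMap g c J hJ (algebraMap A (NR c) a)) = _
      rw [nrMap_algebraMap]
      change eval₂Hom _ _ (C (g a)) = _
      rw [eval₂Hom_C]
    · intro i
      change (desc s).hom (nrMap g c J hJ (Ideal.Quotient.mk _ (X i))) = _
      rw [nrMap_X]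
      change eval₂Hom _ _ (X i) = _
      rw [eval₂Hom_X']
      rfl
  · intro s
    ext b
    change eval₂Hom _ _ (C b) = _
    rw [eval₂Hom_C]
  · intro s m hm1 hm2
    ext1
    apply Ideal.Quotient.ringHom_ext
    apply MvPolynomial.ringHom_ext
    · intro b
      refine (congrArg (fun f => f.hom b) hm2).trans ?_
      change _ = eval₂Hom _ _ (C b)
      rw [eval₂Hom_C]
    · intro i
      change m.hom (Ideal.Quotient.mk J (X i)) = eval₂Hom _ _ (X i)
      rw [eval₂Hom_X', ← nrMap_X g c J hJ i]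
      exact congrArg (fun f => f.hom (Ideal.Quotient.mk _ (X i))) hm1

/-- The isomorphism `(x, y) ↦ (v x, y)` from `x y = v c` to `x y = c`. -/
def nrScale (c : A) (v : Aˣ) : NR ((v : A) * c) ≃+* NR c :=
  RingEquiv.ofRingHom
    (Ideal.Quotient.lift _
      (eval₂Hom (algebraMap A (NR c)) ![algebraMap A (NR c) v * Ideal.Quotient.mk _ (X 0),
        Ideal.Quotient.mk _ (X 1)]) fun p hp => by
      obtain ⟨q, rfl⟩ := Ideal.mem_span_singleton'.1 hp
      have h3 : (Ideal.Quotient.mk (nodeIdeal c) (X 0) : NR c) * Ideal.Quotient.mk _ (X 1) =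
          algebraMap A (NR c) c := by
        rw [← map_mul]
        exact Ideal.Quotient.eq.2 (Ideal.subset_span rfl)
      rw [map_mul, map_sub, map_mul, eval₂Hom_X', eval₂Hom_X', eval₂Hom_C]
      simp only [Matrix.cons_val_zero, Matrix.cons_val_one]
      rw [mul_assoc, h3, ← map_mul, sub_self, mul_zero])
    (Ideal.Quotient.lift _
      (eval₂Hom (algebraMap A (NR ((v : A) * c)))
        ![algebraMap A (NR ((v : A) * c)) ↑v⁻¹ * Ideal.Quotient.mk _ (X 0),
          Ideal.Quotient.mk _ (X 1)]) fun p hp => by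
      obtain ⟨q, rfl⟩ := Ideal.mem_span_singleton'.1 hp
      have h3 : (Ideal.Quotient.mk (nodeIdeal ((v : A) * c)) (X 0) : NR ((v : A) * c)) *
          Ideal.Quotient.mk _ (X 1) = algebraMap A (NR ((v : A) * c)) ((v : A) * c) := by
        rw [← map_mul]
        exact Ideal.Quotient.eq.2 (Ideal.subset_span rfl)
      rw [map_mul, map_sub, map_mul, eval₂Hom_X', eval₂Hom_X', eval₂Hom_C]
      simp only [Matrix.cons_val_zero, Matrix.cons_val_one]
      rw [mul_assoc, h3, ← map_mul, ← mul_assoc, Units.inv_mul, one_mul, sub_self, mul_zero])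
    (by
      apply Ideal.Quotient.ringHom_ext
      apply MvPolynomial.ringHom_ext
      · intro a
        simp [algebraMap_NR]
      · intro i
        fin_cases i <;>
          simp [IsScalarTower.algebraMap_apply A (MvPolynomial (Fin 2) A) (NR ((v : A) * c)),
            IsScalarTower.algebraMap_apply A (MvPolynomial (Fin 2) A) (NR c), ← mul_assoc, ← map_mul])
    (by
      apply Ideal.Quotient.ringHom_ext
      apply MvPolynomial.ringHom_ext
      · intro a
        simp [algebraMap_NR]
      · intro i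
        fin_cases i <;>
          simp [IsScalarTower.algebraMap_apply A (MvPolynomial (Fin 2) A) (NR ((v : A) * c)),
            IsScalarTower.algebraMap_apply A (MvPolynomial (Fin 2) A) (NR c), ← mul_assoc, ← map_mul])

end Groth.Agent.ArtNode
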