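import Groth.Prelude.Def_ArtFun4
import Groth.Agent.ArtNode.Ring
import Mathlib.RingTheory.AdjoinRoot
import Mathlib.RingTheory.RingHom.Flat

/-!
# The node has no pro-representable deformation functor
-/

noncomputable section

open CategoryTheory CategoryTheory.Limits AlgebraicGeometry MvPolynomial ArtFun

universe u v

namespace Groth.Agent.ArtNode

variable {k : Type u} [Field k]

/-- A finite algebra with an augmentation with nilpotent kernel, as an object. -/
def artOf (S : Type u) [CommRing S] [Algebra k S] [Module.Finite k S] (res : S →ₐ[k] k)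
    (hnil : ∀ a, res a = 0 → IsNilpotent a) : Art k k :=
  haveI : Nontrivial S := res.toRingHom.domain_nontrivial
  haveI : IsLocalRing S := IsLocalRing.of_isUnit_or_isUnit_one_sub_self fun a => by
    by_cases h : res a = 0
    · exact Or.inr (IsNilpotent.isUnit_one_sub (hnil a h))
    · refine Or.inl ?_
      have h1 : IsNilpotent (a - algebraMap k S (res a)) := hnil _ (by simp)
      have h2 := h1.isUnit_add_right_of_commute ((Ne.isUnit h).map (algebraMap k S)) (Commute.all _ _)
      rwa [sub_add_cancel] at h2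
  haveI : IsArtinianRing S := IsArtinianRing.of_finite k S
  Art.of S res fun r => ⟨algebraMap k S r, res.commutes r⟩

variable (k) in
/-- `k[t]/(t^3)`. -/
abbrev T3 : Type u := Polynomial k ⧸ Ideal.span {(Polynomial.X : Polynomial k) ^ 3}

/-- The class of `t`. -/
def t3 : T3 k := Ideal.Quotient.mk _ Polynomial.X

theorem t3_pow : (t3 : T3 k) ^ 3 = 0 := by
  rw [t3, ← map_pow, Ideal.Quotient.eq_zero_iff_mem]
  exact Ideal.subset_span rfl

instance : Module.Finite k (T3 k) := Polynomial.Monic.finite_quotient (Polynomial.monic_X_pow 3)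

variable (k) in
/-- Evaluation at zero. -/
def res3 : T3 k →ₐ[k] k :=
  Ideal.Quotient.liftₐ _ (Polynomial.aeval (0 : k)) fun p hp => by
    obtain ⟨q, rfl⟩ := Ideal.mem_span_singleton'.1 hp
    simp

theorem res3_t : res3 k t3 = 0 := by simp [res3, t3]

theorem exists_t_dvd (a : T3 k) : ∃ b, a = algebraMap k (T3 k) (res3 k a) + t3 * b := by
  obtain ⟨p, rfl⟩ := Ideal.Quotient.mk_surjective a
  refine ⟨Ideal.Quotient.mk _ p.divX, ?_⟩
  have h : res3 k (Ideal.Quotient.mk _ p) = p.coeff 0 := by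
    simp [res3, Polynomial.coeff_zero_eq_eval_zero]
  rw [h]
  conv_lhs => rw [← Polynomial.X_mul_divX_add p]
  rw [map_add, map_mul, add_comm]
  rfl

theorem nilpotent_of_res3 (a : T3 k) (h : res3 k a = 0) : IsNilpotent a := by
  obtain ⟨b, hb⟩ := exists_t_dvd a
  rw [h, map_zero, zero_add] at hb
  exact ⟨3, by rw [hb, mul_pow, t3_pow, zero_mul]⟩

theorem sq_mul (a : T3 k) : t3 ^ 2 * a = algebraMap k (T3 k) (res3 k a) * t3 ^ 2 := by
  obtain ⟨b, hb⟩ := exists_t_dvd a
  conv_lhs => rw [hb]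
  rw [mul_add, ← mul_assoc, ← pow_succ, t3_pow, zero_mul, add_zero, mul_comm]

variable (k) in
/-- The object `k[t]/(t^3)`. -/
def A3 : Art k k := artOf (T3 k) (res3 k) nilpotent_of_res3

variable (k) in
/-- `T3 ×_k k[ε]`. -/
abbrev B0 : Subalgebra k (T3 k × DualNumber k) :=
  AlgHom.equalizer ((res3 k).comp (AlgHom.fst k _ _))
    ((TrivSqZeroExt.fstHom k k k).comp (AlgHom.snd k _ _))

theorem mem_B0 (p : B0 k) : res3 k p.1.1 = TrivSqZeroExt.fst p.1.2 := p.2

variable (k) in
/-- The object `T3 ×_k k[ε]`. -/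
def B3 : Art k k :=
  haveI : Module.Finite k (DualNumber k) := inferInstanceAs (Module.Finite k (k × k))
  artOf (B0 k) ((res3 k).comp ((AlgHom.fst k _ _).comp (B0 k).val)) fun p h => by
    have h1 := nilpotent_of_res3 p.1.1 h
    have h2 : p.1.2 ^ 2 = 0 := by
      have h' : TrivSqZeroExt.fst p.1.2 = 0 := (mem_B0 p).symm.trans h
      rw [pow_two]
      ext <;> simp [h']
    obtain ⟨n, hn⟩ := h1
    refine ⟨n + 2, Subtype.ext (Prod.ext ?_ ?_)⟩
    · simp [pow_add, hn]
    · simp [pow_add, h2]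

/-- `ε ↦ t^2`. -/
def dualTo3 : DualNumber k →ₐ[k] T3 k where
  toFun z := algebraMap k (T3 k) z.fst + algebraMap k (T3 k) z.snd * t3 ^ 2
  map_one' := by simp
  map_mul' x y := by
    simp only [TrivSqZeroExt.fst_mul, DualNumber.snd_mul, map_mul, map_add]
    linear_combination (-(algebraMap k (T3 k) x.snd * algebraMap k (T3 k) y.snd * t3)) * t3_pow (k := k)
  map_zero' := by simp
  map_add' x y := by simp only [TrivSqZeroExt.fst_add, TrivSqZeroExt.snd_add, map_add]; ring
  commutes' r := by simp [TrivSqZeroExt.algebraMap_eq_inl']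

/-- First projection. -/
def q1 : B3 k ⟶ A3 k := Art.homMk ((AlgHom.fst k _ _).comp (B0 k).val) rfl

/-- `(a, z) ↦ a + (snd z) t^2`. -/
def q2Alg : B0 k →ₐ[k] T3 k where
  toFun p := p.1.1 + algebraMap k (T3 k) p.1.2.snd * t3 ^ 2
  map_one' := by simp
  map_mul' p q := by
    have hp := mem_B0 p
    have hq := mem_B0 q
    simp only [MulMemClass.coe_mul, Prod.fst_mul, Prod.snd_mul, DualNumber.snd_mul, map_add,
      map_mul, ← hp, ← hq]
    linear_combination (-(algebraMap k (T3 k) p.1.2.snd * algebraMap k (T3 k) q.1.2.snd * t3)) *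
      t3_pow (k := k) - algebraMap k (T3 k) q.1.2.snd * sq_mul p.1.1
      - algebraMap k (T3 k) p.1.2.snd * sq_mul q.1.1
  map_zero' := by simp
  map_add' p q := by
    simp only [AddMemClass.coe_add, Prod.fst_add, Prod.snd_add, TrivSqZeroExt.snd_add, map_add]
    ring
  commutes' r := by simp [TrivSqZeroExt.algebraMap_eq_inl']

/-- The second projection. -/
def q2 : B3 k ⟶ A3 k :=
  Art.homMk q2Alg (AlgHom.ext fun p => by
    change res3 k (p.1.1 + algebraMap k (T3 k) p.1.2.snd * t3 ^ 2) = res3 k p.1.1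
    simp [res3_t])

/-- The tangent projection. -/
def qd : B3 k ⟶ Art.dual k k :=
  Art.homMk ((AlgHom.snd k _ _).comp (B0 k).val) (AlgHom.ext fun p => (mem_B0 p).symm)

theorem injective_q {b b' : B3 k} (h1 : q1 b = q1 b') (h2 : q2 b = q2 b') : b = b' := by
  change (b : B0 k).1.1 = (b' : B0 k).1.1 at h1
  change (b : B0 k).1.1 + algebraMap k (T3 k) (b : B0 k).1.2.snd * t3 ^ 2 =
    (b' : B0 k).1.1 + algebraMap k (T3 k) (b' : B0 k).1.2.snd * t3 ^ 2 at h2
  rw [h1, add_right_inj, ← sub_eq_zero, ← sub_mul, ← map_sub] at h2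
  have h3 : (b : B0 k).1.2.snd = (b' : B0 k).1.2.snd := by
    by_contra h
    have h4 : (t3 : T3 k) ^ 2 = 0 :=
      ((Ne.isUnit (sub_ne_zero.2 h)).map (algebraMap k (T3 k))).mul_right_eq_zero.1 h2
    rw [t3, ← map_pow, Ideal.Quotient.eq_zero_iff_mem, Ideal.mem_span_singleton,
      Polynomial.X_pow_dvd_iff] at h4
    simpa using h4 2 (by omega)
  exact Subtype.ext (Prod.ext h1 (TrivSqZeroExt.ext
    ((mem_B0 b).symm.trans ((congrArg (res3 k) h1).trans (mem_B0 b'))) h3))

variable (k) in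
/-- The ideal of the node. -/
abbrev N0 : Ideal (MvPolynomial (Fin 2) k) := Ideal.span {(X 0 * X 1 : MvPolynomial (Fin 2) k)}

variable (k) in
/-- The node. -/
abbrev NX : Scheme.{u} := Spec (CommRingCat.of (MvPolynomial (Fin 2) k ⧸ N0 k))

variable (k) in
/-- Its structure map. -/
abbrev Nx : NX k ⟶ Spec (CommRingCat.of k) :=
  Spec.map (CommRingCat.ofHom (algebraMap k (MvPolynomial (Fin 2) k ⧸ N0 k)))

theorem hN0 {A : Art k k} (c : A) (hc : A.res c = 0) :
    N0 k = Ideal.span {X 0 * X 1 - C (A.res.toRingHom c)} := by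
  have : A.res.toRingHom c = 0 := hc
  rw [this, map_zero, sub_zero]

/-- The deformation `x y = c`. -/
def fam (A : Art k k) (c : A) (hc : A.res c = 0) : DefSch (NX k) (Nx k) A where
  total := Spec (CommRingCat.of (NR c))
  f := Spec.map (CommRingCat.ofHom (algebraMap A (NR c)))
  flat := by
    rw [HasRingHomProperty.Spec_iff (P := @Flat)]
    exact RingHom.flat_algebraMap_iff.2 (flat_NR c)
  i := Spec.map (CommRingCat.ofHom (nrMap A.res.toRingHom c (N0 k) (hN0 c hc)))
  isPullback := isPullback_SpecMap_of_isPushout _ _ _ _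
    (isPushout_nr A.res.toRingHom c (N0 k) (hN0 c hc))

theorem map_fam {A B : Art k k} (g : A ⟶ B) (c : A) (hc : A.res c = 0) (d : B) (hd : g c = d) :
    (defFunctor (NX k) (Nx k)).map g (fam A c hc).cl =
      (fam B d (hd ▸ (Art.res_app g c).trans hc)).cl := by
  subst hd
  rw [defFunctor_map_cl]
  refine Quotient.sound ⟨?_⟩
  have h : IsPullback
      (Spec.map (CommRingCat.ofHom (nrMap g.toAlgHom.toRingHom c (nodeIdeal (g c)) rfl)))
      (fam B (g c) ((Art.res_app g c).trans hc)).f (fam A c hc).f (Art.specMap g) :=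
    isPullback_SpecMap_of_isPushout _ _ _ _ (isPushout_nr g.toAlgHom.toRingHom c _ rfl)
  refine ⟨(IsPullback.of_hasPullback (fam A c hc).f (Art.specMap g)).isoIsPullback _ _ h,
    IsPullback.isoIsPullback_hom_snd _ _ _ _, ?_⟩
  apply h.hom_ext
  · refine (Category.assoc _ _ _).trans ((congrArg (((fam A c hc).baseChange g).i ≫ ·)
      (IsPullback.isoIsPullback_hom_fst _ _ _ h)).trans
      (((fam A c hc).baseChange_i_fst g).trans ?_))
    change Spec.map _ = Spec.map _ ≫ Spec.map _
    rw [← Spec.map_comp, ← CommRingCat.ofHom_comp]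
    congr 2
    apply Ideal.Quotient.ringHom_ext
    apply MvPolynomial.ringHom_ext
    · intro a
      simp [nrMap]
      exact congrArg (fun z => Ideal.Quotient.mk (N0 k) (C z)) (Art.res_app g a).symm
    · intro i
      simp [nrMap]
  · exact (Category.assoc _ _ _).trans ((congrArg (((fam A c hc).baseChange g).i ≫ ·)
      (IsPullback.isoIsPullback_hom_snd _ _ _ h)).trans
      (((fam A c hc).baseChange_i_f g).trans (DefSch.i_f (fam B (g c) _)).symm))

theorem cl_fam_unit (A : Art k k) (c : A) (hc : A.res c = 0) (v : Aˣ) (hv : A.res v = 1) :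
    (fam A ((v : A) * c) (by rw [map_mul, hc, mul_zero])).cl = (fam A c hc).cl := by
  refine Eq.symm (Quotient.sound ⟨⟨Scheme.Spec.mapIso (nrScale c v).toCommRingCatIso.op, ?_, ?_⟩⟩)
  · change Spec.map _ ≫ Spec.map _ = Spec.map _
    rw [← Spec.map_comp]
    congr 1
    ext a
    change nrScale c v (algebraMap A (NR ((v : A) * c)) a) = algebraMap A (NR c) a
    rw [algebraMap_NR, algebraMap_NR]
    simp [nrScale, algebraMap_NR]
  · change Spec.map _ ≫ Spec.map _ = Spec.map _
    rw [← Spec.map_comp]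
    congr 1
    ext1
    apply Ideal.Quotient.ringHom_ext
    apply MvPolynomial.ringHom_ext
    · intro a
      simp [nrMap, nrScale, algebraMap_NR]
    · intro i
      fin_cases i <;> simp [nrMap, nrScale, algebraMap_NR, hv]

theorem fam_eps_ne : (fam (Art.dual k k) DualNumber.eps rfl).cl ≠
    (fam (Art.dual k k) 0 rfl).cl := by
  intro h
  obtain ⟨e⟩ := Quotient.exact h
  let R0 := NR (0 : (Art.dual k k).carrier)
  let R1 := NR (DualNumber.eps : (Art.dual k k).carrier)
  let φ : R0 →+* R1 := (Spec.preimage e.iso.hom).hom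
  have hφ : e.iso.hom = Spec.map (CommRingCat.ofHom φ) := (Spec.map_preimage _).symm
  let j0 := nrMap (Art.dual k k).res.toRingHom (0 : (Art.dual k k).carrier) (N0 k) (hN0 _ rfl)
  let j1 := nrMap (Art.dual k k).res.toRingHom (DualNumber.eps : (Art.dual k k).carrier) (N0 k)
    (hN0 _ rfl)
  have hi : ∀ r, j1 (φ r) = j0 r := fun r => by
    have := e.i_hom
    rw [hφ] at this
    change Spec.map (CommRingCat.ofHom j1) ≫ Spec.map (CommRingCat.ofHom φ) =
      Spec.map (CommRingCat.ofHom j0) at this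
    rw [← Spec.map_comp] at this
    exact congrArg (fun f => f.hom r) (Spec.map_injective this)
  let ψ : R1 →+* T3 k := Ideal.Quotient.lift _
    (eval₂Hom (dualTo3 (k := k)).toRingHom fun _ => t3) fun p hp => by
      obtain ⟨q, rfl⟩ := Ideal.mem_span_singleton'.1 hp
      rw [map_mul, map_sub, map_mul, eval₂Hom_X', eval₂Hom_X', eval₂Hom_C]
      change _ * (t3 * t3 - (algebraMap k (T3 k) 0 + algebraMap k (T3 k) 1 * t3 ^ 2)) = 0
      simp [pow_two]
  let π : T3 k →ₐ[k] DualNumber k :=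
    Ideal.Quotient.liftₐ _ (Polynomial.aeval (DualNumber.eps : DualNumber k)) fun p hp => by
      obtain ⟨q, rfl⟩ := Ideal.mem_span_singleton'.1 hp
      simp [pow_succ]
  let ρ : MvPolynomial (Fin 2) k ⧸ N0 k →+* DualNumber k := Ideal.Quotient.lift _
    (eval₂Hom (algebraMap k (DualNumber k)) fun _ => DualNumber.eps) fun p hp => by
      obtain ⟨q, rfl⟩ := Ideal.mem_span_singleton'.1 hp
      simp
  have hπψ : π.toRingHom.comp ψ = ρ.comp j1 := by
    apply Ideal.Quotient.ringHom_ext
    apply MvPolynomial.ringHom_ext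
    · intro a
      change π (ψ (Ideal.Quotient.mk _ (C a))) = ρ (j1 (Ideal.Quotient.mk _ (C a)))
      have ha : ψ (Ideal.Quotient.mk _ (C a)) = dualTo3 a := eval₂Hom_C _ _ a
      have hb : j1 (Ideal.Quotient.mk _ (C a)) = Ideal.Quotient.mk _ (C (TrivSqZeroExt.fst a)) :=
        congrArg (Ideal.Quotient.mk (N0 k)) (map_C _ a)
      have hπt : π (t3 : T3 k) = DualNumber.eps := Polynomial.aeval_X _
      rw [ha, hb, show ρ (Ideal.Quotient.mk _ (C (TrivSqZeroExt.fst a))) =
        algebraMap k (DualNumber k) (TrivSqZeroExt.fst a) from eval₂Hom_C _ _ _]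
      change π (algebraMap k (T3 k) _ + algebraMap k (T3 k) _ * t3 ^ 2) = _
      rw [map_add, map_mul, map_pow, hπt, π.commutes, pow_two, DualNumber.eps_mul_eps, mul_zero,
        add_zero]
    · intro i
      change π (ψ (Ideal.Quotient.mk _ (X i))) = ρ (j1 (Ideal.Quotient.mk _ (X i)))
      rw [show ψ (Ideal.Quotient.mk _ (X i)) = t3 from eval₂Hom_X' _ _ i,
        show j1 (Ideal.Quotient.mk _ (X i)) = Ideal.Quotient.mk _ (X i) from nrMap_X _ _ _ _ i,
        show ρ (Ideal.Quotient.mk _ (X i)) = DualNumber.eps from eval₂Hom_X' _ _ i]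
      exact Polynomial.aeval_X _
  have hx : ∀ i : Fin 2, ∃ r, ψ (φ (Ideal.Quotient.mk _ (X i))) = t3 + t3 ^ 2 * r := fun i => by
    have h1 : π (ψ (φ (Ideal.Quotient.mk _ (X i)))) = DualNumber.eps := by
      have h2 := RingHom.congr_fun hπψ (φ (Ideal.Quotient.mk _ (X i)))
      refine h2.trans ?_
      change ρ (j1 (φ _)) = _
      rw [hi, show j0 (Ideal.Quotient.mk _ (X i)) = Ideal.Quotient.mk _ (X i) from nrMap_X _ _ _ _ i]
      exact eval₂Hom_X' _ _ i
    obtain ⟨p, hp⟩ := Ideal.Quotient.mk_surjective (ψ (φ (Ideal.Quotient.mk _ (X i))))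
    rw [← hp] at h1 ⊢
    have h3 : (Polynomial.X : Polynomial k) ^ 2 ∣ p - Polynomial.X := by
      rw [Polynomial.X_pow_dvd_iff]
      have h4 : π (Ideal.Quotient.mk _ p) =
          algebraMap k (DualNumber k) (p.coeff 0) + algebraMap k _ (p.coeff 1) * DualNumber.eps := by
        rw [show π (Ideal.Quotient.mk _ p) = Polynomial.aeval (DualNumber.eps : DualNumber k) p from rfl]
        conv_lhs => rw [← Polynomial.X_mul_divX_add p, ← Polynomial.X_mul_divX_add p.divX]
        have h5 : ∀ x : DualNumber k, DualNumber.eps * (DualNumber.eps * x) = 0 := fun x => by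
          rw [← mul_assoc, DualNumber.eps_mul_eps, zero_mul]
        simp [mul_add, h5, Polynomial.coeff_divX]
        ring
      rw [h1] at h4
      intro d hd
      interval_cases d
      · have := congrArg TrivSqZeroExt.fst h4
        simpa [TrivSqZeroExt.algebraMap_eq_inl'] using this.symm
      · have := congrArg TrivSqZeroExt.snd h4
        simp [TrivSqZeroExt.algebraMap_eq_inl'] at this
        simp [← this]
    obtain ⟨q, hq⟩ := h3
    refine ⟨Ideal.Quotient.mk _ q, ?_⟩
    rw [sub_eq_iff_eq_add] at hq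
    rw [hq, map_add, map_mul, map_pow, add_comm]
    rfl
  obtain ⟨r, hr⟩ := hx 0
  obtain ⟨s, hs⟩ := hx 1
  have h0 : (Ideal.Quotient.mk _ (X 0) : R0) * Ideal.Quotient.mk _ (X 1) = 0 := by
    rw [← map_mul, Ideal.Quotient.eq_zero_iff_mem]
    refine Ideal.subset_span ?_
    simp
  have h2 : (t3 : T3 k) ^ 2 = 0 := by
    have := congrArg (fun x => ψ (φ x)) h0
    simp only [map_mul, map_zero, hr, hs] at this
    linear_combination this - (r + s + t3 * r * s) * t3_pow (k := k)
  rw [t3, ← map_pow, Ideal.Quotient.eq_zero_iff_mem, Ideal.mem_span_singleton,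
    Polynomial.X_pow_dvd_iff] at h2
  simpa using h2 2 (by omega)

/-- In a pro-representable functor two elements agreeing under jointly injective maps are equal. -/
theorem eq_of_prorep {F : Art k k ⥤ Type v} (P : ProRep F) {B A' : Art k k} (p₁ p₂ : B ⟶ A')
    (hinj : ∀ b b' : B, p₁ b = p₁ b' → p₂ b = p₂ b' → b = b') {x y : F.obj B}
    (h₁ : F.map p₁ x = F.map p₁ y) (h₂ : F.map p₂ x = F.map p₂ y) : x = y := by
  obtain ⟨φ, rfl⟩ := (P.universal B).2 x
  obtain ⟨φ', rfl⟩ := (P.universal B).2 y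
  have a1 : HomSet.map p₁ φ = HomSet.map p₁ φ' := (P.universal A').1 (by
    rw [P.family.natural, P.family.natural, h₁])
  have a2 : HomSet.map p₂ φ = HomSet.map p₂ φ' := (P.universal A').1 (by
    rw [P.family.natural, P.family.natural, h₂])
  have : φ = φ' := Subtype.ext (AlgHom.ext fun r => hinj _ _
    (congrArg (fun f : HomSet _ _ A' => f.1 r) a1) (congrArg (fun f : HomSet _ _ A' => f.1 r) a2))
  rw [this]

variable (k)

/-- `t` as an element of the object. -/
def tt : (A3 k).carrier := (t3 : T3 k)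

theorem res_tt : (A3 k).res (tt k) = 0 := res3_t

/-- `(t, 0)`. -/
def e0 : (B3 k).carrier := (⟨(t3, 0), by simp [res3_t]⟩ : B0 k)

/-- `(t, ε)`. -/
def e1 : (B3 k).carrier := (⟨(t3, DualNumber.eps), by simp [res3_t]⟩ : B0 k)

theorem res_e0 : (B3 k).res (e0 k) = 0 := res3_t
theorem res_e1 : (B3 k).res (e1 k) = 0 := res3_t
theorem q1_e0 : q1 (e0 k) = tt k := rfl
theorem q1_e1 : q1 (e1 k) = tt k := rfl
theorem qd_e0 : qd (e0 k) = (0 : DualNumber k) := rfl
theorem qd_e1 : qd (e1 k) = (DualNumber.eps : DualNumber k) := rfl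

theorem q2_e0 : q2 (e0 k) = tt k := by
  change t3 + algebraMap k (T3 k) (0 : k) * t3 ^ 2 = (t3 : T3 k)
  simp

theorem exists_unit : ∃ v : (A3 k).carrierˣ, (A3 k).res v = 1 ∧ q2 (e1 k) = (v : (A3 k).carrier) * tt k := by
  refine ⟨((nilpotent_of_res3 (t3 : T3 k) res3_t).isUnit_one_add).unit, ?_, ?_⟩
  · change res3 k (1 + t3) = 1
    simp [res3_t]
  · change t3 + algebraMap k (T3 k) (1 : k) * t3 ^ 2 = (1 + t3) * (t3 : T3 k)
    simp
    ring

variable {k}

theorem not_isProrepresentable : ¬ IsProrepresentable (defFunctor (Λ := k) (NX k) (Nx k)) := by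
  rintro ⟨P⟩
  obtain ⟨v, hv, hq⟩ := exists_unit k
  have h := eq_of_prorep P q1 q2 (fun _ _ => injective_q)
    (x := (fam (B3 k) (e0 k) (res_e0 k)).cl) (y := (fam (B3 k) (e1 k) (res_e1 k)).cl)
    (by rw [map_fam q1 _ (res_e0 k) _ (q1_e0 k), map_fam q1 _ (res_e1 k) _ (q1_e1 k)])
    (by
      rw [map_fam q2 _ (res_e0 k) _ (q2_e0 k), map_fam q2 _ (res_e1 k) _ hq]
      exact (cl_fam_unit (A3 k) (tt k) (res_tt k) v hv).symm)
  have hd := congrArg ((defFunctor (NX k) (Nx k)).map qd) h
  rw [map_fam qd _ (res_e0 k) _ (qd_e0 k), map_fam qd _ (res_e1 k) _ (qd_e1 k)] at hd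
  exact fam_eps_ne hd.symm

end Groth.Agent.ArtNode
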